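import Mathlib

set_option linter.style.haveILetI false
set_option linter.unusedVariables false
set_option linter.unusedSectionVars false
set_option autoImplicit false
set_option backward.isDefEq.respectTransparency.types false

universe u

/-! helper7: helper7: going down at a quasi-finite point over a normal base via Zariski's main theorem; primes of the integral closure lift along the ZMT localisation -/

namespace Groth.Agent.Helper7.ClSpec

section Transfer

variable {R S : Type*} [CommRing R] [CommRing S] [Algebra R S]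

/-- a prime of the integral closure avoiding the element `r` of Zariski's main theorem is the
contraction of a prime of the big ring -/
theorem exists_prime_comap_integralClosure (r : S) (hr : IsIntegral R r)
    (H : ∀ x : S, ∃ m : ℕ, IsIntegral R (r ^ m * x))
    (Q : Ideal (integralClosure R S)) [hQ : Q.IsPrime]
    (hrQ : (⟨r, hr⟩ : integralClosure R S) ∉ Q) :
    ∃ q : Ideal S, q.IsPrime ∧ q.comap (algebraMap (integralClosure R S) S) = Q := by
  rw [← Ideal.comap_map_eq_self_iff_of_isPrime]
  apply le_antisymm _ Ideal.le_comap_map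
  have key : ∀ y ∈ Q.map (algebraMap (integralClosure R S) S),
      ∃ m : ℕ, ∃ c : integralClosure R S, c ∈ Q ∧ (c : S) = r ^ m * y := by
    intro y hy
    have hy' : y ∈ Ideal.span (algebraMap (integralClosure R S) S '' Q) := hy
    induction hy' using Submodule.span_induction with
    | mem x hx =>
      obtain ⟨c, hc, rfl⟩ := hx
      exact ⟨0, c, hc, by simp⟩
    | zero => exact ⟨0, 0, Q.zero_mem, by simp⟩
    | add y₁ y₂ h₁ h₂ ih₁ ih₂ =>
      obtain ⟨m₁, c₁, hc₁, e₁⟩ := ih₁ h₁
      obtain ⟨m₂, c₂, hc₂, e₂⟩ := ih₂ h₂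
      refine ⟨m₁ + m₂, (⟨r, hr⟩ : integralClosure R S) ^ m₂ * c₁ +
        (⟨r, hr⟩ : integralClosure R S) ^ m₁ * c₂,
        Q.add_mem (Q.mul_mem_left _ hc₁) (Q.mul_mem_left _ hc₂), ?_⟩
      push_cast
      rw [e₁, e₂]
      ring
    | smul s y h ih =>
      obtain ⟨m, c, hc, e⟩ := ih h
      obtain ⟨k, hk⟩ := H s
      refine ⟨k + m, (⟨r ^ k * s, hk⟩ : integralClosure R S) * c, Q.mul_mem_left _ hc, ?_⟩
      push_cast
      rw [e, smul_eq_mul]
      ring
  intro x hx
  rw [Ideal.mem_comap] at hx
  obtain ⟨m, c, hc, e⟩ := key _ hx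
  have h1 : c = (⟨r, hr⟩ : integralClosure R S) ^ m * x := by
    apply Subtype.ext
    rw [e]
    push_cast
    rfl
  rw [h1] at hc
  exact (hQ.mem_or_mem hc).resolve_left (fun h => hrQ (hQ.mem_of_pow_mem m h))

end Transfer

/-- going down at a quasi-finite point over a normal base, via Zariski's main theorem -/
theorem exists_goingDown_of_weaklyQuasiFiniteAt {R S : Type u} [CommRing R] [CommRing S]
    [IsDomain R] [IsDomain S] [Algebra R S] [Algebra.FiniteType R S]
    (hinj : Function.Injective (algebraMap R S)) [IsIntegrallyClosed R]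
    (q' : Ideal S) [hq' : q'.IsPrime] [Algebra.WeaklyQuasiFiniteAt R q'] :
    ∃ r : S, r ∉ q' ∧ IsIntegral R r ∧ (∀ x : S, ∃ m : ℕ, IsIntegral R (r ^ m * x)) ∧
      ∀ p : Ideal R, p.IsPrime → p ≤ q'.under R →
        ∃ q : Ideal S, q.IsPrime ∧ q ≤ q' ∧ q.under R = p := by
  obtain ⟨r, hrq, hr, H⟩ := Algebra.zariskisMainProperty_iff.mp
    (Algebra.ZariskisMainProperty.of_finiteType_of_weaklyQuasiFiniteAt (R := R) q')
  refine ⟨r, hrq, hr, H, ?_⟩
  intro p hp hle
  haveI := hp
  haveI : FaithfulSMul R (integralClosure R S) :=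
    (faithfulSMul_iff_algebraMap_injective R (integralClosure R S)).mpr (by
      intro a b hab
      apply hinj
      have := congrArg (algebraMap (integralClosure R S) S) hab
      rwa [← IsScalarTower.algebraMap_apply, ← IsScalarTower.algebraMap_apply] at this)
  let q'C : Ideal (integralClosure R S) := q'.comap (algebraMap (integralClosure R S) S)
  haveI : q'C.IsPrime := Ideal.comap_isPrime _ _
  haveI : q'C.LiesOver (q'.under R) := ⟨by
    show q'.under R = (q'.comap (algebraMap (integralClosure R S) S)).comap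
      (algebraMap R (integralClosure R S))
    rw [Ideal.comap_comap, ← IsScalarTower.algebraMap_eq]⟩
  obtain ⟨Q, hQle, hQp, hQlo⟩ :=
    Ideal.exists_ideal_le_liesOver_of_le (p := p) (q := q'.under R) q'C hle
  haveI := hQp
  have hrQ : (⟨r, hr⟩ : integralClosure R S) ∉ Q := fun h => hrq (hQle h)
  obtain ⟨q, hqp, hqQ⟩ := exists_prime_comap_integralClosure r hr H Q hrQ
  refine ⟨q, hqp, ?_, ?_⟩
  · intro x hx
    obtain ⟨m, hm⟩ := H x
    have h1 : (⟨r ^ m * x, hm⟩ : integralClosure R S) ∈ Q := by
      rw [← hqQ, Ideal.mem_comap]; exact q.mul_mem_left _ hx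
    have h2 : r ^ m * x ∈ q' := hQle h1
    exact (hq'.mem_or_mem h2).resolve_left (fun h => hrq (hq'.mem_of_pow_mem m h))
  · have h3 : q.under R = Q.under R := by
      rw [← hqQ]
      show q.comap (algebraMap R S) = (q.comap (algebraMap (integralClosure R S) S)).comap
        (algebraMap R (integralClosure R S))
      rw [Ideal.comap_comap, ← IsScalarTower.algebraMap_eq]
    rw [h3]
    exact (hQlo.over).symm

end Groth.Agent.Helper7.ClSpec
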