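import Mathlib

set_option linter.style.haveILetI false
set_option linter.unusedVariables false
set_option linter.unusedSectionVars false
set_option autoImplicit false
set_option backward.isDefEq.respectTransparency.types false

universe u

/-! helper7: helper7: polynomial rings over valuation rings: integral closedness of polynomial rings, scaling a polynomial to nonzero reduction, non-vanishing on infinite boxes, finiteness and injectivity of the substitution X_i -> P_i(X_i) -/

namespace Groth.Agent.Helper7.ClSpec

/-- polynomial rings in finitely many variables over an integrally closed domain are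
integrally closed -/
theorem isIntegrallyClosed_mvPolynomial_fin (R : Type u) [CommRing R] [IsDomain R]
    [IsIntegrallyClosed R] (d : ℕ) : IsIntegrallyClosed (MvPolynomial (Fin d) R) := by
  induction d with
  | zero => exact IsIntegrallyClosed.of_equiv (MvPolynomial.isEmptyRingEquiv R (Fin 0)).symm
  | succ n ih =>
    haveI := ih
    haveI : IsIntegrallyClosed (Polynomial (MvPolynomial (Fin n) R)) := inferInstance
    exact IsIntegrallyClosed.of_equiv (MvPolynomial.finSuccEquiv R n).symm.toRingEquiv

/-- in a valuation ring, a nonempty finite family has a member dividing all the others -/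
theorem exists_dvd_all {V : Type*} [CommRing V] [IsDomain V] [ValuationRing V] {ι : Type*}
    (s : Finset ι) (hs : s.Nonempty) (c : ι → V) : ∃ i ∈ s, ∀ j ∈ s, c i ∣ c j := by
  classical
  induction hs using Finset.Nonempty.cons_induction with
  | singleton a =>
    exact ⟨a, Finset.mem_singleton_self a, fun j hj => by rw [Finset.mem_singleton.mp hj]⟩
  | cons a s ha hs ih =>
    obtain ⟨i, hi, hdiv⟩ := ih
    rcases ValuationRing.dvd_total (c a) (c i) with h | h
    · refine ⟨a, Finset.mem_cons_self a s, fun j hj => ?_⟩
      rcases Finset.mem_cons.mp hj with rfl | hj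
      · exact dvd_rfl
      · exact h.trans (hdiv j hj)
    · refine ⟨i, Finset.mem_cons.mpr (Or.inr hi), fun j hj => ?_⟩
      rcases Finset.mem_cons.mp hj with rfl | hj
      · exact h
      · exact hdiv j hj

/-- a nonzero polynomial over a valuation ring is a nonzero constant times a polynomial with
nonzero reduction modulo the maximal ideal -/
theorem exists_scale {V : Type*} [CommRing V] [IsDomain V] [ValuationRing V] {σ : Type*}
    (F : MvPolynomial σ V) (hF : F ≠ 0) :
    ∃ (c : V) (F' : MvPolynomial σ V), c ≠ 0 ∧ F = MvPolynomial.C c * F' ∧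
      MvPolynomial.map (Ideal.Quotient.mk (IsLocalRing.maximalIdeal V)) F' ≠ 0 := by
  classical
  have hs : F.support.Nonempty := by
    rw [Finset.nonempty_iff_ne_empty, Ne, MvPolynomial.support_eq_empty]; exact hF
  obtain ⟨m₀, hm₀, hdiv⟩ := exists_dvd_all F.support hs (fun m => F.coeff m)
  have hc : F.coeff m₀ ≠ 0 := MvPolynomial.mem_support_iff.mp hm₀
  choose! e he using hdiv
  have he0 : e m₀ = 1 := by
    have h1 := he m₀ hm₀
    have h2 : F.coeff m₀ * 1 = F.coeff m₀ * e m₀ := by rw [mul_one]; exact h1
    exact (mul_left_cancel₀ hc h2).symm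
  refine ⟨F.coeff m₀, ∑ m ∈ F.support, MvPolynomial.monomial m (e m), hc, ?_, ?_⟩
  · rw [Finset.mul_sum]
    conv_lhs => rw [F.as_sum]
    apply Finset.sum_congr rfl
    intro m hm
    rw [MvPolynomial.C_mul_monomial, ← he m hm]
  · intro h0
    have h1 := congrArg (MvPolynomial.coeff m₀) h0
    rw [MvPolynomial.coeff_map, MvPolynomial.coeff_sum, MvPolynomial.coeff_zero] at h1
    simp only [MvPolynomial.coeff_monomial] at h1
    rw [Finset.sum_ite_eq' F.support m₀ e, if_pos hm₀, he0, map_one] at h1
    exact one_ne_zero h1

/-- a nonzero polynomial over a domain does not vanish on a box with infinite sides -/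
theorem exists_eval_ne_zero {R : Type*} [CommRing R] [IsDomain R] {d : ℕ} (S : Set R)
    (hS : S.Infinite) (F : MvPolynomial (Fin d) R) (hF : F ≠ 0) :
    ∃ a : Fin d → R, (∀ i, a i ∈ S) ∧ MvPolynomial.eval a F ≠ 0 := by
  by_contra h
  push Not at h
  apply hF
  apply MvPolynomial.funext_set (fun _ => S) (fun _ => hS)
  intro x hx
  rw [map_zero]
  exact h x (fun i => hx i (Set.mem_univ i))

section Psi

variable {R : Type*} [CommRing R] {d : ℕ} (P : Fin d → Polynomial R)

/-- the substitution `X i ↦ P i (X i)` -/
noncomputable def psi : MvPolynomial (Fin d) R →ₐ[R] MvPolynomial (Fin d) R :=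
  MvPolynomial.aeval (fun i => Polynomial.aeval (MvPolynomial.X i) (P i))

theorem psi_X (i : Fin d) :
    psi P (MvPolynomial.X i) = Polynomial.aeval (MvPolynomial.X i) (P i) := by
  simp [psi]

theorem psi_finite [Nontrivial R] (hm : ∀ i, (P i).Monic) (hd : ∀ i, (P i).natDegree ≠ 0) :
    (psi P).toRingHom.Finite := by
  apply RingHom.IsIntegral.to_finite
  · intro x
    induction x using MvPolynomial.induction_on with
    | C a =>
      have : (MvPolynomial.C a : MvPolynomial (Fin d) R) = (psi P).toRingHom (MvPolynomial.C a) := by
        simp [psi]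
      rw [this]; exact RingHom.isIntegralElem_map _
    | add p q hp hq => exact RingHom.IsIntegralElem.add _ hp hq
    | mul_X p i hp =>
      apply RingHom.IsIntegralElem.mul _ hp
      refine ⟨(P i).map (algebraMap R _) - Polynomial.C (MvPolynomial.X i), ?_, ?_⟩
      · apply Polynomial.Monic.sub_of_left ((hm i).map _)
        rw [Polynomial.degree_eq_natDegree ((hm i).map _).ne_zero, (hm i).natDegree_map]
        refine lt_of_le_of_lt Polynomial.degree_C_le ?_
        exact_mod_cast Nat.pos_of_ne_zero (hd i)
      · rw [Polynomial.eval₂_sub, Polynomial.eval₂_C, Polynomial.eval₂_map]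
        have h1 : (psi P).toRingHom.comp (algebraMap R (MvPolynomial (Fin d) R)) =
            algebraMap R (MvPolynomial (Fin d) R) := by
          ext a; simp [psi]
        rw [h1]
        have h2 : (psi P).toRingHom (MvPolynomial.X i) =
            Polynomial.aeval (MvPolynomial.X i) (P i) := psi_X P i
        rw [h2, Polynomial.aeval_def, sub_self]
  · have h : algebraMap R (MvPolynomial (Fin d) R) =
        (psi P).toRingHom.comp (algebraMap R (MvPolynomial (Fin d) R)) := by
      ext a; simp [psi]
    have hft : (algebraMap R (MvPolynomial (Fin d) R)).FiniteType :=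
      RingHom.finiteType_algebraMap.mpr inferInstance
    rw [h] at hft
    exact hft.of_comp_finiteType

theorem psi_injective {k : Type*} [Field k] {d : ℕ} (P : Fin d → Polynomial k)
    (hd : ∀ i, (P i).natDegree ≠ 0) : Function.Injective (psi P) := by
  have h1 : AlgebraicIndependent k
      (fun i : Fin d => Polynomial.aeval (MvPolynomial.X i : MvPolynomial (Fin d) k) (P i)) := by
    apply (MvPolynomial.algebraicIndependent_X (Fin d) k).polynomial_aeval_of_transcendental
    intro i
    apply Polynomial.transcendental (P i) (hd i)
    apply mem_nonZeroDivisors_of_ne_zero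
    intro h0
    rw [Polynomial.leadingCoeff_eq_zero] at h0
    apply hd i
    rw [h0, Polynomial.natDegree_zero]
  exact h1

end Psi

end Groth.Agent.Helper7.ClSpec
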