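import Mathlib
import Groth.Agent.Lib.Helper7.ClSpec.Poly
import Groth.Agent.Lib.Helper7.ClSpec.GoDown

set_option linter.style.haveILetI false
set_option linter.unusedVariables false
set_option linter.unusedSectionVars false
set_option autoImplicit false
set_option backward.isDefEq.respectTransparency.types false

universe u

/-! helper7: helper7: the core statement over a valuation ring: closed points of the generic fibre specialising to a closed point of the special fibre (coordinates via Noether normalisation, Zariski's main theorem and going down) -/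

namespace Groth.Agent.Helper7.ClSpec

/-- a nonzero integral element of a domain is killed by a monic polynomial with nonzero constant
coefficient -/
theorem exists_monic_coeff_zero_ne_zero {R S : Type*} [CommRing R] [CommRing S] [IsDomain S]
    [Algebra R S] (y : S) (hy : IsIntegral R y) (hy0 : y ≠ 0) :
    ∃ M : Polynomial R, M.Monic ∧ Polynomial.aeval y M = 0 ∧ M.coeff 0 ≠ 0 := by
  obtain ⟨M₀, hM₀, hM₀e⟩ := hy
  haveI : Nontrivial R := (algebraMap R S).domain_nontrivial
  have key : ∀ n : ℕ, ∀ M : Polynomial R, M.natDegree = n → M.Monic →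
      Polynomial.aeval y M = 0 →
      ∃ M' : Polynomial R, M'.Monic ∧ Polynomial.aeval y M' = 0 ∧ M'.coeff 0 ≠ 0 := by
    intro n
    induction n using Nat.strong_induction_on with
    | _ n ih =>
      intro M hn hM hMe
      by_cases h0 : M.coeff 0 = 0
      · have h1 : M = M.divX * Polynomial.X := by
          have := Polynomial.divX_mul_X_add M
          rw [h0, map_zero, add_zero] at this
          exact this.symm
        have hn0 : n ≠ 0 := by
          rintro rfl
          have : M = 1 := Polynomial.eq_one_of_monic_natDegree_zero hM hn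
          rw [this] at h0; simp at h0
        have h2 : Polynomial.aeval y M.divX = 0 := by
          have h3 := hMe
          rw [h1, map_mul, Polynomial.aeval_X] at h3
          exact (mul_eq_zero.mp h3).resolve_right hy0
        have h4 : M.divX.Monic := by
          rw [Polynomial.Monic, Polynomial.leadingCoeff, Polynomial.coeff_divX,
            Polynomial.natDegree_divX_eq_natDegree_tsub_one, hn]
          have h5 : n - 1 + 1 = n := by omega
          rw [h5, ← hn]; exact hM
        exact ih (n - 1) (by omega) M.divX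
          (by rw [Polynomial.natDegree_divX_eq_natDegree_tsub_one, hn]) h4 h2
      · exact ⟨M, hM, hMe, h0⟩
  exact key _ M₀ rfl hM₀ (by rw [Polynomial.aeval_def]; exact hM₀e)

section Core

variable (V : Type u) [CommRing V] [IsDomain V] [ValuationRing V]
  (B : Type u) [CommRing B] [IsDomain B] [Algebra V B] [Algebra.FiniteType V B]

/-- coordinates near a closed point of the special fibre: elements of the prime, algebraically
independent over the valuation ring, making the special fibre finite over the affine space -/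
theorem exists_coordinates (hinj : Function.Injective (algebraMap V B))
    (q' : Ideal B) [hq'p : q'.IsPrime]
    (hq' : ∀ c ∈ IsLocalRing.maximalIdeal V, algebraMap V B c ∈ q')
    (hint : ∀ b : B, ∃ P : Polynomial V, P.Monic ∧ Polynomial.aeval b P ∈ q') :
    ∃ (d : ℕ) (t' : Fin d → B), (∀ i, t' i ∈ q') ∧
      Function.Injective (MvPolynomial.aeval t' : MvPolynomial (Fin d) V →ₐ[V] B) ∧
      ((Ideal.Quotient.mk ((IsLocalRing.maximalIdeal V).map (algebraMap V B))).comp
        (MvPolynomial.aeval t' : MvPolynomial (Fin d) V →ₐ[V] B).toRingHom).Finite := by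
  classical
  have hIq : (IsLocalRing.maximalIdeal V).map (algebraMap V B) ≤ q' :=
    Ideal.map_le_iff_le_comap.mpr (fun c hc => hq' c hc)
  haveI : Nontrivial (B ⧸ (IsLocalRing.maximalIdeal V).map (algebraMap V B)) :=
    Ideal.Quotient.nontrivial_iff.mpr (fun h => hq'p.ne_top (top_le_iff.mp (h ▸ hIq)))
  letI : Field (V ⧸ IsLocalRing.maximalIdeal V) := Ideal.Quotient.field _
  haveI : Algebra.FiniteType (V ⧸ IsLocalRing.maximalIdeal V)
      (B ⧸ (IsLocalRing.maximalIdeal V).map (algebraMap V B)) :=
    Algebra.FiniteType.of_restrictScalars_finiteType V _ _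
  obtain ⟨d, g0, hg0inj, hg0fin⟩ := exists_finite_inj_algHom_of_fg
    (V ⧸ IsLocalRing.maximalIdeal V) (B ⧸ (IsLocalRing.maximalIdeal V).map (algebraMap V B))
  choose t ht using fun i : Fin d =>
    Ideal.Quotient.mk_surjective (I := (IsLocalRing.maximalIdeal V).map (algebraMap V B))
      (g0 (MvPolynomial.X i))
  choose P hPm hPq using fun i => hint (t i)
  have hPd : ∀ i, (P i).natDegree ≠ 0 := by
    intro i h0
    have h1 : P i = 1 := Polynomial.eq_one_of_monic_natDegree_zero (hPm i) h0
    have h2 := hPq i
    rw [h1, map_one] at h2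
    exact hq'p.ne_top ((Ideal.eq_top_iff_one _).mpr h2)
  have hPbd : ∀ i, ((P i).map (Ideal.Quotient.mk (IsLocalRing.maximalIdeal V))).natDegree ≠ 0 :=
    fun i => by rw [(hPm i).natDegree_map]; exact hPd i
  have hPbm : ∀ i, ((P i).map (Ideal.Quotient.mk (IsLocalRing.maximalIdeal V))).Monic :=
    fun i => (hPm i).map _
  have hid : (Ideal.Quotient.mk ((IsLocalRing.maximalIdeal V).map (algebraMap V B))).comp
      (MvPolynomial.aeval (fun i => Polynomial.aeval (t i) (P i)) :
        MvPolynomial (Fin d) V →ₐ[V] B).toRingHom =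
      (g0.toRingHom.comp (psi (fun i => (P i).map
        (Ideal.Quotient.mk (IsLocalRing.maximalIdeal V)))).toRingHom).comp
        (MvPolynomial.map (Ideal.Quotient.mk (IsLocalRing.maximalIdeal V))) := by
    apply MvPolynomial.ringHom_ext
    · intro c
      simp only [RingHom.comp_apply, AlgHom.toRingHom_eq_coe, RingHom.coe_coe,
        MvPolynomial.aeval_C, MvPolynomial.map_C]
      rw [← MvPolynomial.algebraMap_eq, AlgHom.commutes, AlgHom.commutes]
      rfl
    · intro i
      simp only [RingHom.comp_apply, AlgHom.toRingHom_eq_coe, RingHom.coe_coe,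
        MvPolynomial.aeval_X, MvPolynomial.map_X]
      rw [psi_X, ← Polynomial.aeval_algHom_apply g0 (MvPolynomial.X i) _, ← ht i]
      have h2 : (Ideal.Quotient.mk ((IsLocalRing.maximalIdeal V).map (algebraMap V B)))
          (Polynomial.aeval (t i) (P i)) =
          Polynomial.aeval ((Ideal.Quotient.mk
            ((IsLocalRing.maximalIdeal V).map (algebraMap V B))) (t i)) (P i) :=
        (Polynomial.aeval_algHom_apply (Ideal.Quotient.mkₐ V
          ((IsLocalRing.maximalIdeal V).map (algebraMap V B))) (t i) (P i)).symm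
      rw [h2]
      exact (Polynomial.aeval_map_algebraMap (V ⧸ IsLocalRing.maximalIdeal V)
        ((Ideal.Quotient.mk ((IsLocalRing.maximalIdeal V).map (algebraMap V B))) (t i))
        (P i)).symm
  refine ⟨d, fun i => Polynomial.aeval (t i) (P i), hPq, ?_, ?_⟩
  · rw [injective_iff_map_eq_zero]
    intro F hF
    by_contra hne
    obtain ⟨c, F', hc, hFF', hF'⟩ := exists_scale F hne
    have h1 : algebraMap V B c * MvPolynomial.aeval (fun i => Polynomial.aeval (t i) (P i)) F'
        = 0 := by
      rw [← hF, hFF', map_mul, MvPolynomial.aeval_C]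
    have h2 : MvPolynomial.aeval (fun i => Polynomial.aeval (t i) (P i)) F' = 0 :=
      (mul_eq_zero.mp h1).resolve_left (fun h => hc (hinj (by rw [h, map_zero])))
    have h3 := RingHom.congr_fun hid F'
    simp only [RingHom.comp_apply, AlgHom.toRingHom_eq_coe, RingHom.coe_coe] at h3
    rw [h2, map_zero] at h3
    have h4 : psi (fun i => (P i).map (Ideal.Quotient.mk (IsLocalRing.maximalIdeal V)))
        (MvPolynomial.map (Ideal.Quotient.mk (IsLocalRing.maximalIdeal V)) F') = 0 :=
      hg0inj (by rw [map_zero]; exact h3.symm)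
    exact hF' (psi_injective _ hPbd (by rw [map_zero]; exact h4))
  · rw [hid]
    exact RingHom.Finite.comp (RingHom.Finite.comp hg0fin (psi_finite _ hPbm hPbd))
      (RingHom.Finite.of_surjective _
        (MvPolynomial.map_surjective _ Ideal.Quotient.mk_surjective))

/-- the core statement over a valuation ring: through a closed point of the special fibre of a
finitely generated domain over a valuation ring (not a field) pass closed points of the generic
fibre avoiding any given nonzero element -/
theorem core_val (hinj : Function.Injective (algebraMap V B))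
    (π : V) (hπ0 : π ≠ 0) (hπ : π ∈ IsLocalRing.maximalIdeal V)
    (q' : Ideal B) [hq'p : q'.IsPrime]
    (hq' : ∀ c ∈ IsLocalRing.maximalIdeal V, algebraMap V B c ∈ q')
    (hint : ∀ b : B, ∃ P : Polynomial V, P.Monic ∧ Polynomial.aeval b P ∈ q')
    (g : B) (hg : g ≠ 0) :
    ∃ q : Ideal B, q.IsPrime ∧ q ≤ q' ∧ q.comap (algebraMap V B) = ⊥ ∧ g ∉ q ∧
      Algebra.IsAlgebraic V (B ⧸ q) := by
  obtain ⟨d, t', ht'q, hφinj, hfin⟩ := exists_coordinates V B hinj q' hq' hint
  letI algΛ : Algebra (MvPolynomial (Fin d) V) B :=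
    (MvPolynomial.aeval t' : MvPolynomial (Fin d) V →ₐ[V] B).toRingHom.toAlgebra
  have halg : ∀ F, algebraMap (MvPolynomial (Fin d) V) B F = MvPolynomial.aeval t' F :=
    fun F => rfl
  haveI : IsScalarTower V (MvPolynomial (Fin d) V) B :=
    IsScalarTower.of_algebraMap_eq (fun c => by
      rw [halg, MvPolynomial.algebraMap_eq, MvPolynomial.aeval_C])
  haveI : Algebra.FiniteType (MvPolynomial (Fin d) V) B :=
    Algebra.FiniteType.of_restrictScalars_finiteType V _ B
  haveI : IsIntegrallyClosed (MvPolynomial (Fin d) V) := isIntegrallyClosed_mvPolynomial_fin V d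
  have hIJ : (IsLocalRing.maximalIdeal V).map (algebraMap V B) ≤
      (q'.under (MvPolynomial (Fin d) V)).map (algebraMap (MvPolynomial (Fin d) V) B) := by
    rw [Ideal.map_le_iff_le_comap]
    intro c hc
    rw [Ideal.mem_comap]
    have h1 : algebraMap V B c = algebraMap (MvPolynomial (Fin d) V) B (MvPolynomial.C c) := by
      rw [halg, MvPolynomial.aeval_C]
    rw [h1]
    apply Ideal.mem_map_of_mem
    rw [Ideal.mem_comap, ← h1]
    exact hq' c hc
  haveI hfinI : Module.Finite (MvPolynomial (Fin d) V)
      (B ⧸ (IsLocalRing.maximalIdeal V).map (algebraMap V B)) := by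
    rw [← RingHom.finite_algebraMap]
    exact hfin
  haveI : Module.Finite (MvPolynomial (Fin d) V)
      (B ⧸ (q'.under (MvPolynomial (Fin d) V)).map (algebraMap (MvPolynomial (Fin d) V) B)) :=
    Module.Finite.of_surjective
      (Ideal.Quotient.factorₐ (MvPolynomial (Fin d) V) hIJ).toLinearMap
      (Ideal.Quotient.factor_surjective hIJ)
  haveI : Algebra.WeaklyQuasiFiniteAt (MvPolynomial (Fin d) V) q' := by
    show Algebra.QuasiFinite _ (Localization.AtPrime _)
    infer_instance
  obtain ⟨r, hrq, hr, H, hgd⟩ :=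
    exists_goingDown_of_weaklyQuasiFiniteAt (R := MvPolynomial (Fin d) V) (S := B) hφinj q'
  obtain ⟨m₀, hm₀⟩ := H g
  have hr0 : r ≠ 0 := fun h => hrq (h ▸ q'.zero_mem)
  have hg'0 : r ^ m₀ * g ≠ 0 := mul_ne_zero (pow_ne_zero _ hr0) hg
  obtain ⟨μ, hμm, hμe, hc0⟩ := exists_monic_coeff_zero_ne_zero (r ^ m₀ * g) hm₀ hg'0
  have hrel : algebraMap (MvPolynomial (Fin d) V) B (μ.coeff 0) =
      -((r ^ m₀ * g) * Polynomial.aeval (r ^ m₀ * g) μ.divX) := by
    have h2 := congrArg (Polynomial.aeval (r ^ m₀ * g)) (Polynomial.divX_mul_X_add μ)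
    rw [map_add, map_mul, Polynomial.aeval_X, Polynomial.aeval_C, hμe] at h2
    linear_combination h2
  have hπu : ¬ IsUnit π := mem_nonunits_iff.mp ((IsLocalRing.mem_maximalIdeal π).mp hπ)
  have hSinf : (IsLocalRing.maximalIdeal V : Set V).Infinite := by
    apply Set.infinite_of_injective_forall_mem (f := fun n : ℕ => π ^ (n + 1))
    · intro n m hnm
      have h : n + 1 = m + 1 := pow_injective_of_not_isUnit hπu hπ0 hnm
      omega
    · intro n
      exact Ideal.pow_mem_of_mem _ hπ _ (Nat.succ_pos n)
  obtain ⟨a, haS, hane⟩ := exists_eval_ne_zero (IsLocalRing.maximalIdeal V : Set V) hSinf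
    (μ.coeff 0) hc0
  haveI hpp : (RingHom.ker (MvPolynomial.eval a : MvPolynomial (Fin d) V →+* V)).IsPrime :=
    RingHom.ker_isPrime _
  have hple : RingHom.ker (MvPolynomial.eval a : MvPolynomial (Fin d) V →+* V) ≤
      q'.under (MvPolynomial (Fin d) V) := by
    intro F hF
    rw [Ideal.mem_comap]
    have hχ : (Ideal.Quotient.mk q').comp (algebraMap (MvPolynomial (Fin d) V) B) =
        ((Ideal.Quotient.mk q').comp (algebraMap V B)).comp (MvPolynomial.eval a) := by
      apply MvPolynomial.ringHom_ext
      · intro c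
        simp only [RingHom.comp_apply, MvPolynomial.eval_C]
        rw [halg, MvPolynomial.aeval_C]
      · intro i
        simp only [RingHom.comp_apply, MvPolynomial.eval_X]
        rw [halg, MvPolynomial.aeval_X, Ideal.Quotient.eq_zero_iff_mem.mpr (ht'q i),
          Ideal.Quotient.eq_zero_iff_mem.mpr (hq' _ (haS i))]
    have h1 := RingHom.congr_fun hχ F
    simp only [RingHom.comp_apply] at h1
    rw [RingHom.mem_ker.mp hF, map_zero, map_zero] at h1
    exact Ideal.Quotient.eq_zero_iff_mem.mp h1
  obtain ⟨q, hqp, hqle, hqu⟩ := hgd _ hpp hple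
  haveI := hqp
  have hχ2 : (Ideal.Quotient.mk q).comp (algebraMap (MvPolynomial (Fin d) V) B) =
      ((Ideal.Quotient.mk q).comp (algebraMap V B)).comp (MvPolynomial.eval a) := by
    apply MvPolynomial.ringHom_ext
    · intro c
      simp only [RingHom.comp_apply, MvPolynomial.eval_C]
      rw [halg, MvPolynomial.aeval_C]
    · intro i
      simp only [RingHom.comp_apply, MvPolynomial.eval_X]
      rw [Ideal.Quotient.eq]
      have h1 : MvPolynomial.X i - MvPolynomial.C (a i) ∈ q.under (MvPolynomial (Fin d) V) := by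
        rw [hqu, RingHom.mem_ker]; simp
      have h2 : algebraMap (MvPolynomial (Fin d) V) B
          (MvPolynomial.X i - MvPolynomial.C (a i)) ∈ q := h1
      rw [map_sub] at h2
      have h3 : algebraMap (MvPolynomial (Fin d) V) B (MvPolynomial.C (a i)) =
          algebraMap V B (a i) := by rw [halg, MvPolynomial.aeval_C]
      rwa [h3] at h2
  have hint2 : ∀ y : B, IsIntegral (MvPolynomial (Fin d) V) y →
      IsIntegral V (Ideal.Quotient.mk q y) := by
    rintro y ⟨M, hM, hMe⟩
    refine ⟨M.map (MvPolynomial.eval a), hM.map _, ?_⟩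
    rw [Polynomial.eval₂_map]
    have h1 : (algebraMap V (B ⧸ q)).comp (MvPolynomial.eval a) =
        (Ideal.Quotient.mk q).comp (algebraMap (MvPolynomial (Fin d) V) B) := by
      rw [hχ2]; rfl
    rw [h1, ← Polynomial.hom_eval₂, hMe, map_zero]
  refine ⟨q, hqp, hqle, ?_, ?_, ?_⟩
  · rw [eq_bot_iff]
    intro c hc
    rw [Ideal.mem_comap] at hc
    have h1 : MvPolynomial.C c ∈ q.under (MvPolynomial (Fin d) V) := by
      rw [Ideal.mem_comap, halg, MvPolynomial.aeval_C]; exact hc
    rw [hqu, RingHom.mem_ker, MvPolynomial.eval_C] at h1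
    exact h1
  · intro hgq
    have h1 : r ^ m₀ * g ∈ q := q.mul_mem_left _ hgq
    have h2 : algebraMap (MvPolynomial (Fin d) V) B (μ.coeff 0) ∈ q := by
      rw [hrel]; exact q.neg_mem (q.mul_mem_right _ h1)
    have h3 : μ.coeff 0 ∈ q.under (MvPolynomial (Fin d) V) := h2
    rw [hqu, RingHom.mem_ker] at h3
    exact hane h3
  · constructor
    intro x
    obtain ⟨b, rfl⟩ := Ideal.Quotient.mk_surjective x
    obtain ⟨m, hm⟩ := H b
    have hrm : Ideal.Quotient.mk q (r ^ m) ≠ 0 := by
      rw [Ne, Ideal.Quotient.eq_zero_iff_mem]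
      intro h
      exact hrq (hqle (hqp.mem_of_pow_mem m h))
    apply IsAlgebraic.of_mul (y := Ideal.Quotient.mk q (r ^ m))
      (mem_nonZeroDivisors_of_ne_zero hrm)
    · exact (hint2 _ (hr.pow m)).isAlgebraic
    · rw [← map_mul]
      exact (hint2 _ hm).isAlgebraic

end Core

end Groth.Agent.Helper7.ClSpec
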