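import Mathlib
import Groth.Agent.Lib.Helper7.ClSpec.Core

set_option linter.style.haveILetI false
set_option linter.unusedVariables false
set_option linter.unusedSectionVars false
set_option autoImplicit false
set_option backward.isDefEq.respectTransparency.types false

universe u

/-! helper7: helper7: reduction of the closed-points-between-specialisations statement from a general base to a valuation ring (trace of a valuation ring on a subfield; the algebraic main statement alg_main) -/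

namespace Groth.Agent.Helper7.ClSpec

section ValInter

variable {L : Type u} [Field L] (W : ValuationSubring L) (F : Subfield L)

/-- the trace of a valuation ring on a subfield, as a subring of the big field -/
def vsub : Subring L := W.toSubring ⊓ F.toSubring

theorem mem_vsub {x : L} : x ∈ vsub W F ↔ x ∈ W ∧ x ∈ F := Iff.rfl

instance valuationRing_vsub : ValuationRing (vsub W F) := by
  rw [ValuationRing.iff_dvd_total]
  constructor
  intro a b
  by_cases ha : (a : L) = 0
  · right
    exact ⟨0, Subtype.ext (by simp [ha])⟩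
  by_cases hb : (b : L) = 0
  · left
    exact ⟨0, Subtype.ext (by simp [hb])⟩
  rcases W.mem_or_inv_mem ((b : L) / (a : L)) with h | h
  · left
    refine ⟨⟨(b : L) / (a : L), h, F.div_mem b.2.2 a.2.2⟩, Subtype.ext ?_⟩
    show (b : L) = (a : L) * ((b : L) / (a : L))
    rw [mul_div_cancel₀ _ ha]
  · right
    rw [inv_div] at h
    refine ⟨⟨(a : L) / (b : L), h, F.div_mem a.2.2 b.2.2⟩, Subtype.ext ?_⟩
    show (a : L) = (b : L) * ((a : L) / (b : L))
    rw [mul_div_cancel₀ _ hb]

theorem mem_maximalIdeal_vsub (x : vsub W F) :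
    x ∈ IsLocalRing.maximalIdeal (vsub W F) ↔ W.valuation (x : L) < 1 := by
  rw [IsLocalRing.mem_maximalIdeal, mem_nonunits_iff]
  have hx1 : W.valuation (x : L) ≤ 1 := (W.valuation_le_one_iff _).mpr x.2.1
  constructor
  · intro hnu
    by_contra hlt
    have h1 : W.valuation (x : L) = 1 := le_antisymm hx1 (not_lt.mp hlt)
    have hx0 : (x : L) ≠ 0 := by
      intro h0
      rw [h0, map_zero] at h1
      exact zero_ne_one h1
    apply hnu
    have hinv : (x : L)⁻¹ ∈ W := by
      rw [← W.valuation_le_one_iff, map_inv₀, h1, inv_one]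
    refine isUnit_iff_exists_inv.mpr ⟨⟨(x : L)⁻¹, hinv, F.inv_mem x.2.2⟩, Subtype.ext ?_⟩
    show (x : L) * (x : L)⁻¹ = 1
    exact mul_inv_cancel₀ hx0
  · intro hlt hu
    obtain ⟨y, hy⟩ := isUnit_iff_exists_inv.mp hu
    have h1 : (x : L) * (y : L) = 1 := congrArg Subtype.val hy
    have hy1 : W.valuation (y : L) ≤ 1 := (W.valuation_le_one_iff _).mpr y.2.1
    have h2 : W.valuation (x : L) * W.valuation (y : L) = 1 := by
      rw [← map_mul, h1, map_one]
    have h3 : W.valuation (x : L) * W.valuation (y : L) ≤ W.valuation (x : L) :=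
      mul_le_of_le_one_right' hy1
    rw [h2] at h3
    exact absurd hlt (not_lt.mpr h3)

end ValInter

/-- the algebraic main statement: between two primes `qx ≤ qx'` of a finitely generated
algebra lying over different primes of the base, with `qx'` closed in its fibre, there are
primes closed in the fibre of `qx` avoiding any given element outside `qx` -/
theorem alg_main {A₀ B₀ : Type u} [CommRing A₀] [CommRing B₀] [Algebra A₀ B₀]
    [Algebra.FiniteType A₀ B₀]
    (qx qx' : Ideal B₀) [hqx : qx.IsPrime] [hqx' : qx'.IsPrime] (hle : qx ≤ qx')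
    (hne : qx.under A₀ ≠ qx'.under A₀)
    (hcl : ∀ b : B₀, ∃ P : Polynomial A₀, P.leadingCoeff ∉ qx'.under A₀ ∧
      Polynomial.aeval b P ∈ qx')
    (g₀ : B₀) (hg₀ : g₀ ∉ qx) :
    ∃ q₁ : Ideal B₀, q₁.IsPrime ∧ qx ≤ q₁ ∧ q₁ ≤ qx' ∧ q₁.under A₀ = qx.under A₀ ∧ g₀ ∉ q₁ ∧
      ∀ b : B₀, ∃ P : Polynomial A₀, P.map (Ideal.Quotient.mk (qx.under A₀)) ≠ 0 ∧
        Polynomial.aeval b P ∈ q₁ := by
  classical
  obtain ⟨s, hs⟩ := (Algebra.FiniteType.out : (⊤ : Subalgebra A₀ B₀).FG)
  let L := FractionRing (B₀ ⧸ qx)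
  let ιB : B₀ →+* L := (algebraMap (B₀ ⧸ qx) L).comp (Ideal.Quotient.mk qx)
  have hιB : ∀ b, ιB b = 0 ↔ b ∈ qx := by
    intro b
    show algebraMap (B₀ ⧸ qx) L (Ideal.Quotient.mk qx b) = 0 ↔ _
    rw [map_eq_zero_iff _ (IsFractionRing.injective (B₀ ⧸ qx) L), Ideal.Quotient.eq_zero_iff_mem]
  let ιA : A₀ →+* L := ιB.comp (algebraMap A₀ B₀)
  have hιA : ∀ a, ιA a = 0 ↔ a ∈ qx.under A₀ := fun a => hιB _
  have hunits : ∀ y : qx'.primeCompl, IsUnit (ιB y) := by
    rintro ⟨y, hy⟩
    apply IsUnit.mk0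
    rw [Ne, hιB]
    exact fun h => hy (hle h)
  let f : Localization.AtPrime qx' →+* L := IsLocalization.lift (M := qx'.primeCompl) hunits
  have hf : ∀ b, f (algebraMap B₀ (Localization.AtPrime qx') b) = ιB b :=
    fun b => IsLocalization.lift_eq _ b
  obtain ⟨W, hW, hWloc⟩ := IsLocalRing.exists_factor_valuationRing f
  have W1 : ∀ b, ιB b ∈ W := fun b => by rw [← hf]; exact hW _
  have W3 : ∀ b, b ∉ qx' → 1 ≤ W.valuation (ιB b) := by
    intro b hb
    have h0 : ιB b ≠ 0 := fun h => hb (hle ((hιB b).mp h))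
    have h1 : f (IsLocalization.mk' (Localization.AtPrime qx') (1 : B₀)
        (⟨b, hb⟩ : qx'.primeCompl)) * ιB b = 1 := by
      rw [← hf, ← map_mul, IsLocalization.mk'_spec, map_one, map_one]
    have h2 : (ιB b)⁻¹ ∈ W := by
      have : (ιB b)⁻¹ = f (IsLocalization.mk' (Localization.AtPrime qx') (1 : B₀)
          (⟨b, hb⟩ : qx'.primeCompl)) := by
        rw [inv_eq_iff_eq_inv]
        exact eq_inv_of_mul_eq_one_right h1
      rw [this]; exact hW _
    rw [← W.valuation_le_one_iff, map_inv₀] at h2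
    exact (inv_le_one₀ (zero_lt_iff.mpr ((W.valuation).ne_zero_iff.mpr h0))).mp h2
  have W2 : ∀ b ∈ qx', W.valuation (ιB b) < 1 := by
    intro b hb
    have h1 : W.valuation (ιB b) ≤ 1 := (W.valuation_le_one_iff _).mpr (W1 b)
    refine lt_of_le_of_ne h1 (fun h => ?_)
    have h0 : ιB b ≠ 0 := by
      intro h0; rw [h0, map_zero] at h; exact zero_ne_one h
    have hinv : (ιB b)⁻¹ ∈ W := by
      rw [← W.valuation_le_one_iff, map_inv₀, h, inv_one]
    have hu : IsUnit ((f.codRestrict W.toSubring hW)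
        (algebraMap B₀ (Localization.AtPrime qx') b)) := by
      refine isUnit_iff_exists_inv.mpr ⟨⟨(ιB b)⁻¹, hinv⟩, Subtype.ext ?_⟩
      show f (algebraMap B₀ (Localization.AtPrime qx') b) * (ιB b)⁻¹ = 1
      rw [hf, mul_inv_cancel₀ h0]
    have hu2 := hWloc.map_nonunit _ hu
    rw [IsLocalization.AtPrime.isUnit_to_map_iff (Localization.AtPrime qx') qx'] at hu2
    exact hu2 hb
  let FK : Subfield L := Subfield.closure (ιA.range : Set L)
  have hAV : ∀ a, ιA a ∈ vsub W FK :=
    fun a => ⟨W1 _, Subfield.subset_closure ⟨a, rfl⟩⟩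
  let ιAV : A₀ →+* vsub W FK := ιA.codRestrict (vsub W FK) hAV
  let B' : Subalgebra (vsub W FK) L := Algebra.adjoin (vsub W FK) ((s.image ιB : Finset L) : Set L)
  have hBB' : ∀ b, ιB b ∈ B' := by
    intro b
    have hb : b ∈ Algebra.adjoin A₀ (s : Set B₀) := by rw [hs]; exact Algebra.mem_top
    induction hb using Algebra.adjoin_induction with
    | mem x hx =>
      exact Algebra.subset_adjoin (Finset.mem_coe.mpr (Finset.mem_image_of_mem ιB hx))
    | algebraMap a => exact B'.algebraMap_mem (ιAV a)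
    | add x y _ _ hx hy => rw [map_add]; exact B'.add_mem hx hy
    | mul x y _ _ hx hy => rw [map_mul]; exact B'.mul_mem hx hy
  have hB'W : ∀ y ∈ B', y ∈ W := by
    intro y hy
    induction hy using Algebra.adjoin_induction with
    | mem x hx =>
      obtain ⟨b, _, rfl⟩ := Finset.mem_image.mp (Finset.mem_coe.mp hx)
      exact W1 b
    | algebraMap r => exact r.2.1
    | add x y _ _ hx hy => exact W.add_mem _ _ hx hy
    | mul x y _ _ hx hy => exact W.mul_mem _ _ hx hy
  let j : B' →+* W := (B'.val.toRingHom).codRestrict W (fun y => hB'W y.1 y.2)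
  let q'' : Ideal B' := (IsLocalRing.maximalIdeal W).comap j
  have hq''mem : ∀ y : B', y ∈ q'' ↔ W.valuation (y : L) < 1 := fun y => by
    show j y ∈ IsLocalRing.maximalIdeal W ↔ _
    rw [ValuationSubring.valuation_lt_one_iff]; rfl
  haveI hq''p : q''.IsPrime := Ideal.comap_isPrime j _
  haveI : Algebra.FiniteType (vsub W FK) B' :=
    (Subalgebra.fg_iff_finiteType B').mp (Subalgebra.fg_adjoin_finset _)
  have hinj : Function.Injective (algebraMap (vsub W FK) B') := by
    intro x y h
    exact Subtype.ext (congrArg (fun z : B' => (z : L)) h)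
  have hlt : qx.under A₀ < qx'.under A₀ := lt_of_le_of_ne (Ideal.comap_mono hle) hne
  obtain ⟨a, haq', hanq⟩ := SetLike.exists_of_lt hlt
  have hπ0 : ιAV a ≠ 0 := fun h => hanq ((hιA a).mp (congrArg Subtype.val h))
  have hπ : ιAV a ∈ IsLocalRing.maximalIdeal (vsub W FK) :=
    (mem_maximalIdeal_vsub W FK _).mpr (W2 _ haq')
  have hq' : ∀ c ∈ IsLocalRing.maximalIdeal (vsub W FK), algebraMap (vsub W FK) B' c ∈ q'' := by
    intro c hc
    rw [hq''mem]
    exact (mem_maximalIdeal_vsub W FK c).mp hc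
  have hint' : ∀ y : B', IsIntegral (vsub W FK) (Ideal.Quotient.mk q'' y) := by
    have htop : Algebra.adjoin (vsub W FK)
        (Subtype.val ⁻¹' ((s.image ιB : Finset L) : Set L) : Set B') = ⊤ :=
      Algebra.adjoin_adjoin_coe_preimage
    have h1 : (⊤ : Subalgebra (vsub W FK) B') ≤
        (integralClosure (vsub W FK) (B' ⧸ q'')).comap (Ideal.Quotient.mkₐ (vsub W FK) q'') := by
      rw [← htop]
      apply Algebra.adjoin_le
      intro y hy
      obtain ⟨b, hb, hby⟩ := Finset.mem_image.mp (Finset.mem_coe.mp hy)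
      obtain ⟨P₀, hlead, hP₀⟩ := hcl b
      have hlead0 : ιA P₀.leadingCoeff ≠ 0 := fun h => hlead (hlt.le ((hιA _).mp h))
      have hinvW : (ιA P₀.leadingCoeff)⁻¹ ∈ W := by
        rw [← W.valuation_le_one_iff, map_inv₀]
        exact (inv_le_one₀ (zero_lt_iff.mpr ((W.valuation).ne_zero_iff.mpr hlead0))).mpr
          (W3 _ hlead)
      let uinv : vsub W FK := ⟨(ιA P₀.leadingCoeff)⁻¹, hinvW,
        FK.inv_mem (Subfield.subset_closure ⟨_, rfl⟩)⟩
      have hu : uinv * ιAV P₀.leadingCoeff = 1 :=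
        Subtype.ext (inv_mul_cancel₀ hlead0)
      have hAV0 : ιAV P₀.leadingCoeff ≠ 0 := fun h => hlead0 (congrArg Subtype.val h)
      have hmonic : (Polynomial.C uinv * P₀.map ιAV).Monic := by
        apply Polynomial.monic_C_mul_of_mul_leadingCoeff_eq_one
        rw [Polynomial.leadingCoeff_map_of_leadingCoeff_ne_zero ιAV hAV0]
        exact hu
      have hval : ((Polynomial.aeval y (P₀.map ιAV) : B') : L) = ιB (Polynomial.aeval b P₀) := by
        have e1 : ((Polynomial.aeval y (P₀.map ιAV) : B') : L) =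
            Polynomial.aeval (y : L) (P₀.map ιAV) :=
          (Polynomial.aeval_algHom_apply B'.val y (P₀.map ιAV)).symm
        rw [e1, Polynomial.aeval_def, Polynomial.eval₂_map, Polynomial.aeval_def,
          Polynomial.hom_eval₂, ← hby]
        rfl
      have hmem : Polynomial.aeval y (Polynomial.C uinv * P₀.map ιAV) ∈ q'' := by
        rw [map_mul, Polynomial.aeval_C]
        apply q''.mul_mem_left
        rw [hq''mem, hval]
        exact W2 _ hP₀
      show IsIntegral (vsub W FK) (Ideal.Quotient.mk q'' y)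
      refine ⟨Polynomial.C uinv * P₀.map ιAV, hmonic, ?_⟩
      rw [← Polynomial.aeval_def]
      have e2 := Polynomial.aeval_algHom_apply (Ideal.Quotient.mkₐ (vsub W FK) q'') y
        (Polynomial.C uinv * P₀.map ιAV)
      rw [Ideal.Quotient.mkₐ_eq_mk] at e2
      rw [e2]
      exact Ideal.Quotient.eq_zero_iff_mem.mpr hmem
    intro y
    exact h1 Algebra.mem_top
  have hint : ∀ y : B', ∃ P : Polynomial (vsub W FK), P.Monic ∧ Polynomial.aeval y P ∈ q'' := by
    intro y
    obtain ⟨P, hPm, hPe⟩ := hint' y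
    refine ⟨P, hPm, ?_⟩
    rw [← Polynomial.aeval_def] at hPe
    have e2 := Polynomial.aeval_algHom_apply (Ideal.Quotient.mkₐ (vsub W FK) q'') y P
    rw [Ideal.Quotient.mkₐ_eq_mk] at e2
    rw [e2] at hPe
    exact Ideal.Quotient.eq_zero_iff_mem.mp hPe
  have hg' : (⟨ιB g₀, hBB' g₀⟩ : B') ≠ 0 := by
    intro h
    exact hg₀ ((hιB g₀).mp (congrArg Subtype.val h))
  obtain ⟨Q', hQ'p, hQ'le, hQ'V, hgQ', hQ'alg⟩ :=
    core_val (vsub W FK) B' hinj (ιAV a) hπ0 hπ q'' hq' hint ⟨ιB g₀, hBB' g₀⟩ hg'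
  haveI := hQ'p
  let ιB' : B₀ →+* B' := ιB.codRestrict B' hBB'
  have hclear : ∀ P : Polynomial (vsub W FK), ∃ d : A₀, d ∉ qx.under A₀ ∧
      ∃ P₀ : Polynomial A₀, P₀.map ιAV = Polynomial.C (ιAV d) * P := by
    intro P
    induction P using Polynomial.induction_on' with
    | add p q hp hq =>
      obtain ⟨d₁, hd₁, P₁, e₁⟩ := hp
      obtain ⟨d₂, hd₂, P₂, e₂⟩ := hq
      refine ⟨d₁ * d₂, fun h => ((Ideal.IsPrime.under A₀ qx).mem_or_mem h).elim hd₁ hd₂,
        Polynomial.C d₂ * P₁ + Polynomial.C d₁ * P₂, ?_⟩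
      rw [Polynomial.map_add, Polynomial.map_mul, Polynomial.map_mul, Polynomial.map_C,
        Polynomial.map_C, e₁, e₂, map_mul, Polynomial.C_mul]
      ring
    | monomial n v =>
      obtain ⟨y, hy, z, hz, hyz⟩ := Subfield.mem_closure_iff.mp v.2.2
      rw [Subring.closure_eq] at hy hz
      obtain ⟨ny, rfl⟩ := hy
      obtain ⟨nz, rfl⟩ := hz
      by_cases hz0 : ιA nz = 0
      · refine ⟨1, fun h => (Ideal.IsPrime.under A₀ qx).ne_top ((Ideal.eq_top_iff_one _).mpr h),
          0, ?_⟩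
        have hv : v = 0 := Subtype.ext (by rw [← hyz, hz0, div_zero]; rfl)
        rw [hv]; simp
      · refine ⟨nz, fun h => hz0 ((hιA nz).mpr h), Polynomial.monomial n ny, ?_⟩
        rw [Polynomial.map_monomial, Polynomial.C_mul_monomial]
        congr 1
        apply Subtype.ext
        show ιA ny = ιA nz * (v : L)
        rw [← hyz, mul_div_cancel₀ _ hz0]
  refine ⟨Q'.comap ιB', Ideal.comap_isPrime _ _, ?_, ?_, ?_, ?_, ?_⟩
  · intro b hb
    rw [Ideal.mem_comap]
    have : ιB' b = 0 := Subtype.ext ((hιB b).mpr hb)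
    rw [this]; exact Q'.zero_mem
  · intro b hb
    rw [Ideal.mem_comap] at hb
    have h1 := (hq''mem _).mp (hQ'le hb)
    by_contra hbn
    exact absurd h1 (not_lt.mpr (W3 b hbn))
  · apply le_antisymm
    · intro a' ha'
      have h1 : ιB' (algebraMap A₀ B₀ a') ∈ Q' := ha'
      have h2 : ιB' (algebraMap A₀ B₀ a') = algebraMap (vsub W FK) B' (ιAV a') := rfl
      rw [h2] at h1
      have h3 : ιAV a' ∈ Q'.comap (algebraMap (vsub W FK) B') := h1
      rw [hQ'V, Ideal.mem_bot] at h3
      exact (hιA a').mp (congrArg Subtype.val h3)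
    · intro a' ha'
      show ιB' (algebraMap A₀ B₀ a') ∈ Q'
      have : ιB' (algebraMap A₀ B₀ a') = 0 := Subtype.ext ((hιA a').mpr ha')
      rw [this]; exact Q'.zero_mem
  · intro h
    exact hgQ' h
  · intro b
    obtain ⟨P, hP0, hPe⟩ := hQ'alg.isAlgebraic (Ideal.Quotient.mk Q' (ιB' b))
    have hPQ : Polynomial.aeval (ιB' b) P ∈ Q' := by
      have e2 := Polynomial.aeval_algHom_apply (Ideal.Quotient.mkₐ (vsub W FK) Q') (ιB' b) P
      rw [Ideal.Quotient.mkₐ_eq_mk] at e2
      rw [e2] at hPe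
      exact Ideal.Quotient.eq_zero_iff_mem.mp hPe
    obtain ⟨dd, hdd, P₀, hP₀⟩ := hclear P
    refine ⟨P₀, ?_, ?_⟩
    · intro h0
      have h1 : P₀.map ιAV = 0 := by
        ext n
        rw [Polynomial.coeff_map, Polynomial.coeff_zero]
        have h2 := congrArg (fun p => p.coeff n) h0
        simp only [Polynomial.coeff_map, Polynomial.coeff_zero] at h2
        show ιA (P₀.coeff n) = 0
        exact (hιA _).mpr (Ideal.Quotient.eq_zero_iff_mem.mp h2)
      rw [hP₀] at h1
      rcases mul_eq_zero.mp h1 with h | h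
      · rw [Polynomial.C_eq_zero] at h
        exact hdd ((hιA dd).mp (congrArg Subtype.val h))
      · exact hP0 h
    · show ιB' (Polynomial.aeval b P₀) ∈ Q'
      have h1 : ιB' (Polynomial.aeval b P₀) = Polynomial.aeval (ιB' b) (P₀.map ιAV) := by
        rw [Polynomial.aeval_def, Polynomial.hom_eval₂, Polynomial.aeval_def,
          Polynomial.eval₂_map]
        rfl
      rw [h1, hP₀, map_mul, Polynomial.aeval_C]
      exact Q'.mul_mem_left _ hPQ

end Groth.Agent.Helper7.ClSpec
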