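import Mathlib
import Groth.Agent.Lib.Helper7.ClSpec.Red
import Groth.Agent.Lib.Helper7.CurveThru.Main
import Groth.Agent.Lib.Helper7.AffNhd.Sch
import Groth.Agent.Lib.Helper4.FibDim1
import Groth.Agent.Lib.Helper4.Aff2

set_option linter.style.haveILetI false
set_option linter.unusedVariables false
set_option linter.unusedSectionVars false
set_option autoImplicit false
set_option backward.isDefEq.respectTransparency.types false
set_option synthInstance.maxHeartbeats 400000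

universe u

/-! helper7: helper7: closed points of a fibre between a specialisation: points closed in their fibre have residual transcendence degree zero and conversely; exists_closed_between (scheme-level form of S1374) -/

namespace Groth.Agent.Helper7.ClSpec

open CategoryTheory CategoryTheory.Limits AlgebraicGeometry TopologicalSpace
open Groth.Agent.Lib.Helper4.FibDim1 Groth.Agent.Lib.Helper4.DimIneq2
open Groth.Agent.Lib.Helper4.RadBir3 Groth.Agent.Lib.Helper4.NormFibre2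
open Groth.Agent.Lib.Helper4.Aff2

variable {X S : Scheme.{u}} (f : X ⟶ S) [LocallyOfFiniteType f]

/-- a point closed in its fibre has residue field algebraic over that of its image -/
theorem tr_eq_zero_of_isClosed_fibre (x' : X)
    (hcl : IsClosed (Subtype.val ⁻¹' {x'} : Set ↑(f ⁻¹' {f x'}))) : tr f x' = 0 := by
  have h1 : IsClosed ({⟨x', rfl⟩} : Set ↑(f ⁻¹' {f x'})) := by
    convert hcl using 1
    ext z
    simp [Subtype.ext_iff]
  have h2 : IsClosed ({f.asFiber x'} : Set (f.fiber (f x'))) := by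
    have := (f.fiberHomeo (f x')).symm.isClosed_image.mpr h1
    rwa [Set.image_singleton] at this
  have h3 : tr (f.fiberToSpecResidueField (f x')) (f.asFiber x') = 0 :=
    Groth.Agent.Helper7.CurveThru.tr_eq_zero_of_isClosed (k := S.residueField (f x'))
      (f.fiberToSpecResidueField (f x')) (f.asFiber x') h2
  rw [tr_fiber, f.fiberι_asFiber] at h3
  exact h3

/-- a point with residue field algebraic over that of its image is closed in its fibre -/
theorem isClosed_fibre_of_tr_eq_zero (x₁ : X) (y : S) (hy : f x₁ = y) (h : tr f x₁ = 0) :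
    IsClosed (Subtype.val ⁻¹' {x₁} : Set ↑(f ⁻¹' {y})) := by
  rw [← closure_subset_iff_isClosed]
  intro z hz
  rw [closure_subtype] at hz
  have h1 : (Subtype.val '' (Subtype.val ⁻¹' {x₁} : Set ↑(f ⁻¹' {y}))) ⊆ {x₁} := by
    rintro _ ⟨w, hw, rfl⟩; exact hw
  have h2 : (z : X) ∈ closure ({x₁} : Set X) := closure_mono h1 hz
  have hsp : x₁ ⤳ (z : X) := specializes_iff_mem_closure.mpr h2
  show (z : X) ∈ ({x₁} : Set X)
  rw [Set.mem_singleton_iff]
  by_contra hne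
  have hfz : f x₁ = f (z : X) := by rw [hy]; exact z.2.symm
  have := tr_lt_of_specializes f x₁ (z : X) hsp (Ne.symm hne) hfz
  omega

/-- between a specialization `x ⤳ x'` with `x'` closed in its fibre and `f x ≠ f x'`, every
neighbourhood of `x` contains a point of the fibre of `x`, closed in that fibre, lying between
`x` and `x'` -/
theorem exists_closed_between (x x' : X) (hsp : x ⤳ x') (hne : f x ≠ f x') (htr : tr f x' = 0)
    (O : X.Opens) (hxO : x ∈ O) :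
    ∃ x₁ ∈ O, f x₁ = f x ∧ tr f x₁ = 0 ∧ x ⤳ x₁ ∧ x₁ ⤳ x' := by
  obtain ⟨V, hV, hsV, -⟩ := exists_isAffineOpen_mem_and_subset (U := (⊤ : S.Opens)) (x := f x')
    trivial
  obtain ⟨U, hU, hx'U, hUV⟩ := exists_isAffineOpen_mem_and_subset (U := f ⁻¹ᵁ V) (x := x') hsV
  have hxU : x ∈ U := hsp.mem_open U.isOpen hx'U
  letI alg : Algebra Γ(S, V) Γ(X, U) := (f.appLE V U hUV).hom.toAlgebra
  haveI : Algebra.FiniteType Γ(S, V) Γ(X, U) := LocallyOfFiniteType.finiteType_appLE f hV hU hUV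
  haveI hlo := liesOver_chart f hV hU hUV x hxU rfl
  haveI hlo' := liesOver_chart f hV hU hUV x' hx'U rfl
  have hle : (hU.primeIdealOf ⟨x, hxU⟩).asIdeal ≤ (hU.primeIdealOf ⟨x', hx'U⟩).asIdeal :=
    (specializes_iff_primeIdealOf_le hU ⟨x, hxU⟩ ⟨x', hx'U⟩).mp hsp
  have hunder : (hU.primeIdealOf ⟨x, hxU⟩).asIdeal.under Γ(S, V) =
      (hV.primeIdealOf ⟨f x, hUV hxU⟩).asIdeal := hlo.over.symm
  have hunder' : (hU.primeIdealOf ⟨x', hx'U⟩).asIdeal.under Γ(S, V) =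
      (hV.primeIdealOf ⟨f x', hUV hx'U⟩).asIdeal := hlo'.over.symm
  have hne' : (hU.primeIdealOf ⟨x, hxU⟩).asIdeal.under Γ(S, V) ≠
      (hU.primeIdealOf ⟨x', hx'U⟩).asIdeal.under Γ(S, V) := by
    rw [hunder, hunder']
    intro h
    apply hne
    have := primeIdealOf_injective' hV (PrimeSpectrum.ext h)
    exact congrArg Subtype.val this
  have htr' : Algebra.trdeg (Γ(S, V) ⧸ (hV.primeIdealOf ⟨f x', hUV hx'U⟩).asIdeal)
      (Γ(X, U) ⧸ (hU.primeIdealOf ⟨x', hx'U⟩).asIdeal) = 0 := by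
    rw [tr_chart f hV hU hUV x' hx'U rfl, htr]; simp
  have halg' : Algebra.IsAlgebraic (Γ(S, V) ⧸ (hV.primeIdealOf ⟨f x', hUV hx'U⟩).asIdeal)
      (Γ(X, U) ⧸ (hU.primeIdealOf ⟨x', hx'U⟩).asIdeal) := trdeg_eq_zero_iff.mp htr'
  have hcl : ∀ b : Γ(X, U), ∃ P : Polynomial Γ(S, V),
      P.leadingCoeff ∉ (hU.primeIdealOf ⟨x', hx'U⟩).asIdeal.under Γ(S, V) ∧
      Polynomial.aeval b P ∈ (hU.primeIdealOf ⟨x', hx'U⟩).asIdeal := by
    intro b
    obtain ⟨Pb, hPb0, hPbe⟩ := halg'.isAlgebraic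
      (Ideal.Quotient.mk (hU.primeIdealOf ⟨x', hx'U⟩).asIdeal b)
    obtain ⟨P, hPmap, hPdeg⟩ := Polynomial.exists_degree_eq_of_mem_lifts
      ((Polynomial.mem_lifts Pb).mpr (Polynomial.map_surjective
        (Ideal.Quotient.mk (hV.primeIdealOf ⟨f x', hUV hx'U⟩).asIdeal)
        Ideal.Quotient.mk_surjective Pb))
    refine ⟨P, ?_, ?_⟩
    · rw [hunder']
      intro hmem
      have h1 : Pb.leadingCoeff = 0 := by
        rw [Polynomial.leadingCoeff, ← Polynomial.natDegree_eq_of_degree_eq hPdeg, ← hPmap,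
          Polynomial.coeff_map]
        exact Ideal.Quotient.eq_zero_iff_mem.mpr hmem
      exact hPb0 (Polynomial.leadingCoeff_eq_zero.mp h1)
    · rw [← Ideal.Quotient.eq_zero_iff_mem]
      have e2 := Polynomial.aeval_algHom_apply
        (Ideal.Quotient.mkₐ Γ(S, V) (hU.primeIdealOf ⟨x', hx'U⟩).asIdeal) b P
      rw [Ideal.Quotient.mkₐ_eq_mk] at e2
      rw [← e2, ← Polynomial.aeval_map_algebraMap
        (Γ(S, V) ⧸ (hV.primeIdealOf ⟨f x', hUV hx'U⟩).asIdeal)]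
      rw [show Polynomial.map (algebraMap Γ(S, V)
        (Γ(S, V) ⧸ (hV.primeIdealOf ⟨f x', hUV hx'U⟩).asIdeal)) P = Pb from hPmap]
      exact hPbe
  obtain ⟨g₀, hg₀O, hxg₀⟩ := hU.exists_basicOpen_le (V := O) ⟨x, hxO⟩ hxU
  have hg₀ : g₀ ∉ (hU.primeIdealOf ⟨x, hxU⟩).asIdeal :=
    (Groth.Agent.Helper7.AffNhd.mem_basicOpen_iff hU g₀ x hxU).mp hxg₀
  obtain ⟨q₁, hq₁p, hq₁ge, hq₁le, hq₁u, hgq₁, hq₁alg⟩ :=
    alg_main (hU.primeIdealOf ⟨x, hxU⟩).asIdeal (hU.primeIdealOf ⟨x', hx'U⟩).asIdeal hle hne' hcl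
      g₀ hg₀
  have hx₁U : hU.fromSpec ⟨q₁, hq₁p⟩ ∈ U := fromSpec_mem hU _
  have hx₁q : hU.primeIdealOf ⟨hU.fromSpec ⟨q₁, hq₁p⟩, hx₁U⟩ = ⟨q₁, hq₁p⟩ :=
    primeIdealOf_fromSpec hU _
  haveI hlo₁ := liesOver_chart f hV hU hUV (hU.fromSpec ⟨q₁, hq₁p⟩) hx₁U rfl
  have hfx₁ : f (hU.fromSpec ⟨q₁, hq₁p⟩) = f x := by
    have h2 : hV.primeIdealOf ⟨f (hU.fromSpec ⟨q₁, hq₁p⟩), hUV hx₁U⟩ =
        hV.primeIdealOf ⟨f x, hUV hxU⟩ := by
      apply PrimeSpectrum.ext
      rw [hlo₁.over, hx₁q, ← hunder]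
      exact hq₁u
    exact congrArg Subtype.val (primeIdealOf_injective' hV h2)
  refine ⟨hU.fromSpec ⟨q₁, hq₁p⟩, ?_, hfx₁, ?_, ?_, ?_⟩
  · apply hg₀O
    rw [Groth.Agent.Helper7.AffNhd.mem_basicOpen_iff hU g₀ _ hx₁U, hx₁q]
    exact hgq₁
  · apply tr_eq_of_trdeg_eq
    rw [trdeg_residueFieldMap_eq_chart f hV hU hUV _ hx₁U rfl]
    haveI hlo₂ : q₁.LiesOver ((hU.primeIdealOf ⟨x, hxU⟩).asIdeal.under Γ(S, V)) := ⟨hq₁u.symm⟩
    have h3 : Algebra.trdeg
        (Γ(S, V) ⧸ (hU.primeIdealOf ⟨x, hxU⟩).asIdeal.under Γ(S, V)) (Γ(X, U) ⧸ q₁) = 0 := by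
      rw [trdeg_eq_zero_iff]
      constructor
      intro z
      obtain ⟨b, rfl⟩ := Ideal.Quotient.mk_surjective z
      obtain ⟨P, hP0, hPe⟩ := hq₁alg b
      refine ⟨P.map (Ideal.Quotient.mk _), hP0, ?_⟩
      have e2 := Polynomial.aeval_algHom_apply (Ideal.Quotient.mkₐ Γ(S, V) q₁) b P
      rw [Ideal.Quotient.mkₐ_eq_mk] at e2
      have e3 := Polynomial.aeval_map_algebraMap
        (Γ(S, V) ⧸ (hU.primeIdealOf ⟨x, hxU⟩).asIdeal.under Γ(S, V))
        (Ideal.Quotient.mk q₁ b) P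
      rw [show Polynomial.map (Ideal.Quotient.mk _) P = Polynomial.map (algebraMap Γ(S, V)
        (Γ(S, V) ⧸ (hU.primeIdealOf ⟨x, hxU⟩).asIdeal.under Γ(S, V))) P from rfl, e3, e2]
      exact Ideal.Quotient.eq_zero_iff_mem.mpr hPe
    refine (trdeg_quot_congr _ _ _ _ ?_ ?_).trans (h3.trans Nat.cast_zero.symm)
    · rw [hunder]
      congr 2
      exact Subtype.ext hfx₁
    · rw [hx₁q]
  · rw [specializes_iff_primeIdealOf_le hU ⟨x, hxU⟩ ⟨_, hx₁U⟩, hx₁q]
    exact hq₁ge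
  · rw [specializes_iff_primeIdealOf_le hU ⟨_, hx₁U⟩ ⟨x', hx'U⟩, hx₁q]
    exact hq₁le

end Groth.Agent.Helper7.ClSpec
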